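import Cfsg.Agent.Spor.LyD.V.D0

set_option autoImplicit false
set_option maxRecDepth 100000000
set_option Elab.async false

namespace Cfsg.Agent.Spor.LyD.V

theorem gr2 : sub (ones 19530) (U.growI W1 [1, 3, 2, 1, 0, 0, 1, 2, 3, 3, 2, 1, 0, 0, 1, 2, 3, 3, 2, 1, 0, 0, 1, 2, 3, 3, 2] (Nat.shiftLeft 1 0)) = true := by decide +kernel

theorem cl4 : band (U.closedW W1 (ones 19530)) (sub (Nat.shiftLeft 1 0) (ones 19530)) = true := by decide +kernel

theorem sz5 : sizeOk 15 (ones 19530) 19530 = true := by decide +kernel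

theorem fx8 : U.closedW W7 (Nat.shiftLeft 1 0) = true := by decide +kernel

theorem okL : LyE.D.okL 1323 [71, 74] [[1, 5, 2, 2, 4, 2, 1, 2, 5, 1], [2, 5, 0, 5, 3, 4, 0, 4, 0, 0]] = true := by decide +kernel

theorem okS0 : LyE.D.okS 1323 0 [9, 10, 11, 12] [[0], [2], [4], [6]] = true := by decide +kernel

theorem okS1 : LyE.D.okS 1323 1 [71, 74] [[0, 3, 5, 1, 3, 3, 5, 3, 5, 1], [5, 0, 5, 0, 5, 0, 2, 4, 0, 3]] = true := by decide +kernel

theorem ed10a : lall (LyE.D.okEd 1323 1 J) ed10 = true := by decide +kernel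

theorem ed10b : band (lall (fun e => lall (fun y => Nat.blt y (2 * 4)) e.w) ed10) (sub M11 (edMask (U.pls 15 (2 * 4) 0) ed10)) = true := by decide +kernel

theorem gr12 : sub (ones 19530) (U.growI W9 [0, 1, 1, 0, 0, 1, 1, 0, 0, 1, 1, 0, 0, 1, 1, 0, 0, 1, 1, 0, 0, 1, 1, 0, 0, 1, 1, 0] M11) = true := by decide +kernel

theorem loop1 : LyE.D.loop 1323 1 93 = true := by decide +kernel

theorem okS3 : LyE.D.okS 1323 3 [463, 467] [[6, 1, 4, 3, 3, 4, 6, 4, 0, 5, 0, 4, 3, 6], [5, 7, 5, 0, 5, 0, 4, 6, 3, 5, 5, 2, 7]] = true := by decide +kernel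

theorem ed14a : lall (LyE.D.okEd 1323 3 J) ed14 = true := by decide +kernel

theorem ed14b : band (lall (fun e => lall (fun y => Nat.blt y (2 * 4)) e.w) ed14) (sub M15 (edMask (U.pls 15 (2 * 4) 0) ed14)) = true := by decide +kernel

theorem gr16 : sub (ones 19530) (U.growI W13 [0, 1, 1, 0, 0, 1, 1, 0, 0, 1, 1, 0, 0, 1, 1, 0, 0, 1, 1, 0, 0, 1, 1, 0] M15) = true := by decide +kernel

theorem loop3 : LyE.D.loop 1323 3 813 = true := by decide +kernel

theorem okS4 : LyE.D.okS 1323 4 [912, 917] [[3, 3, 0, 4, 7, 3, 0, 2, 4, 2, 1, 5, 2, 5, 6], [4, 6, 5, 5, 1, 5, 1, 3, 3, 1, 2, 7, 5, 5, 7]] = true := by decide +kernel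

theorem ed18a : lall (LyE.D.okEd 1323 4 J) ed18 = true := by decide +kernel

theorem ed18b : band (lall (fun e => lall (fun y => Nat.blt y (2 * 4)) e.w) ed18) (sub M19 (edMask (U.pls 15 (2 * 4) 0) ed18)) = true := by decide +kernel

theorem gr20 : sub (ones 19530) (U.growI W17 [0, 1, 1, 0, 0, 1, 1, 0, 0, 1, 1, 0, 0, 1, 1, 0, 0, 1, 1, 0, 0, 1] M19) = true := by decide +kernel

theorem loop4 : LyE.D.loop 1323 4 942 = true := by decide +kernel

theorem okS5 : LyE.D.okS 1323 5 [1074, 1075] [[4, 3, 5, 1, 5, 1, 5, 7, 4, 1, 3, 4, 7, 5, 1, 4], [5, 6, 4, 2, 2, 4, 4, 6, 0, 4, 0, 4, 0, 3]] = true := by decide +kernel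

theorem ed22a : lall (LyE.D.okEd 1323 5 J) ed22 = true := by decide +kernel

theorem ed22b : band (lall (fun e => lall (fun y => Nat.blt y (2 * 4)) e.w) ed22) (sub M23 (edMask (U.pls 15 (2 * 4) 0) ed22)) = true := by decide +kernel

theorem gr24 : sub (ones 19530) (U.growI W21 [0, 1, 1, 0, 1, 1, 0, 1, 1, 0, 1, 1, 0, 1, 1, 0, 1, 1, 0, 1, 1, 0] M23) = true := by decide +kernel

theorem loop5 : LyE.D.loop 1323 5 708 = true := by decide +kernel

theorem rinv : band (Nat.blt 7 1323) ((LyE.D.fc 7).onR fun r => onCons r fun _ r' => onCons r' fun _ => isNil) = true := by decide +kernel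

end Cfsg.Agent.Spor.LyD.V
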