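import Cfsg.Agent.Spor.Prim
import Cfsg.Agent.Spor.LyD.Main
import Cfsg.Agent.Spor.LyD.V.C0
import Cfsg.Agent.Spor.Ly3906.VB.Main
import Cfsg.Agent.Spor.LyE.Main

set_option autoImplicit false
set_option maxRecDepth 100000000
set_option Elab.async false

namespace Cfsg.Agent.Spor.LyD.V

theorem hU : U.Ok 15 := U.ok_of 15 (show AllP (fun n => Net.okb 15 n = true) [n0, n1, n2, n3, n4, n5, n6, n7, n8] from AllP.cons ok0 (AllP.cons ok1 (AllP.cons ok2 (AllP.cons ok3 (AllP.cons ok4 (AllP.cons ok5 (AllP.cons ok6 (AllP.cons ok7 (AllP.cons ok8 (AllP.nil))))))))))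

theorem hfP : ∀ j < 4, U.fP [1, 3, 5, 7] j = fP j := by
  intro j hj
  interval_cases j <;> rfl
theorem eG : gsub 4 fP = U.lsub W1 := (gsub_congr hfP).symm.trans (lsub_eq_gsub U [1, 3, 5, 7])
theorem hom : ∃ φ : Ly3906.P →* Equiv.Perm ℕ, ∀ j < 4, φ (Ly3906.p j) = fP j :=
  Ly3906.bound.exists_hom (by norm_num) Ly3906.cert.pres pres Ly3906.lbP
noncomputable def φ : Ly3906.P →* Equiv.Perm ℕ := hom.choose
theorem hφ : ∀ j < 4, φ (Ly3906.p j) = fP j := hom.choose_spec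
theorem link : U.Link φ (atm 4 Ly3906.p) (2 * 4) :=
  Tab.Link.of (fun j hj => (hφ j hj).trans (by interval_cases j <;> rfl)) (by decide +kernel)
def LW : List (List Nat) := [[1, 5, 2, 2, 4, 2, 1, 2, 5, 1], [2, 5, 0, 5, 3, 4, 0, 4, 0, 0]]
theorem reach3 : Reach (U.lsub W1) 0 (ones 19530) := (Reach.grow hU (Reach.base _ 0) gr2)
theorem orb6 : (orbS (U.lsub W1) 0).ncard = 19530 := reach3.ncard hU cl4 sz5
theorem orb6e : orbS (U.lsub W1) 0 = {c | Nat.testBit (ones 19530) c = true} := reach3.orb hU cl4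
theorem act : CosetAct (wsub 4 Ly3906.p LW) φ 19530 :=
  CosetAct.of_count (link.fix hU (W := W7) (by decide +kernel) (hU.fixes fx8))
    (by rw [range_eq_gsub hφ (gsub_lift 4 _), eG]; exact orb6e) Ly3906.VB.cardL Ly3906.cardP
section
variable {R : Type} [CommRing R] {G : Type} [Group G] {Y : DCtx LyE.D R Ly3906.P G}
  (hu : Y.Upto 1323) (hg : Y.X.Gens LyE.TT (atm 4 Ly3906.p))
include hu hg

theorem env : Y.Env 1323 4 Ly3906.p φ 19530 U 15 :=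
  ⟨hu, LyE.one, hg, ⟨_, act, hu.okL LyE.one hg okL⟩, hU, link⟩
theorem cos0 : Y.CosOk 4 Ly3906.p J (0, [[0], [2], [4], [6]], 5859000000) :=
  DCtx.cos_zero hu LyE.one hg (gsub_lift 4 _) Ly3906.cardP okS0 (by decide +kernel)
theorem hW1 : U.lsub W9 ≤ (Y.stabS (Y.sym 1)).map φ := (env hu hg).hW okS1 (by decide +kernel)
theorem cos1 : Y.CosOk 4 Ly3906.p J (1, [[0, 3, 5, 1, 3, 3, 5, 3, 5, 1], [5, 0, 5, 0, 5, 0, 2, 4, 0, 3]], 300000) :=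
  (env hu hg).cos okS1 Ly3906.VB.cardS1 (((env hu hg).edges ed10a ed10b).grow hU (hW1 hu hg) gr12)
theorem hW3 : U.lsub W13 ≤ (Y.stabS (Y.sym 3)).map φ := (env hu hg).hW okS3 (by decide +kernel)
theorem cos3 : Y.CosOk 4 Ly3906.p J (3, [[6, 1, 4, 3, 3, 4, 6, 4, 0, 5, 0, 4, 3, 6], [5, 7, 5, 0, 5, 0, 4, 6, 3, 5, 5, 2, 7]], 6048) :=
  (env hu hg).cos okS3 Ly3906.VB.cardS3 (((env hu hg).edges ed14a ed14b).grow hU (hW3 hu hg) gr16)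
theorem hW4 : U.lsub W17 ≤ (Y.stabS (Y.sym 4)).map φ := (env hu hg).hW okS4 (by decide +kernel)
theorem cos4 : Y.CosOk 4 Ly3906.p J (4, [[3, 3, 0, 4, 7, 3, 0, 2, 4, 2, 1, 5, 2, 5, 6], [4, 6, 5, 5, 1, 5, 1, 3, 3, 1, 2, 7, 5, 5, 7]], 2880) :=
  (env hu hg).cos okS4 Ly3906.VB.cardS4 (((env hu hg).edges ed18a ed18b).grow hU (hW4 hu hg) gr20)
theorem hW5 : U.lsub W21 ≤ (Y.stabS (Y.sym 5)).map φ := (env hu hg).hW okS5 (by decide +kernel)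
theorem cos5 : Y.CosOk 4 Ly3906.p J (5, [[4, 3, 5, 1, 5, 1, 5, 7, 4, 1, 3, 4, 7, 5, 1, 4], [5, 6, 4, 2, 2, 4, 4, 6, 0, 4, 0, 4, 0, 3]], 1008) :=
  (env hu hg).cos okS5 Ly3906.VB.cardS5 (((env hu hg).edges ed22a ed22b).grow hU (hW5 hu hg) gr24)
theorem done : Y.Done 4 Ly3906.p CL 5859000000 8835156 :=
  ⟨Ly3906.cardP, by norm_num, show AllP (Y.CosOk 4 Ly3906.p J) [(0, [[0], [2], [4], [6]], 5859000000), (1, [[0, 3, 5, 1, 3, 3, 5, 3, 5, 1], [5, 0, 5, 0, 5, 0, 2, 4, 0, 3]], 300000), (3, [[6, 1, 4, 3, 3, 4, 6, 4, 0, 5, 0, 4, 3, 6], [5, 7, 5, 0, 5, 0, 4, 6, 3, 5, 5, 2, 7]], 6048), (4, [[3, 3, 0, 4, 7, 3, 0, 2, 4, 2, 1, 5, 2, 5, 6], [4, 6, 5, 5, 1, 5, 1, 3, 3, 1, 2, 7, 5, 5, 7]], 2880), (5, [[4, 3, 5, 1, 5, 1, 5, 7, 4, 1, 3, 4, 7, 5, 1, 4], [5, 6, 4, 2, 2, 4, 4, 6, 0, 4, 0, 4, 0, 3]], 1008)] from AllP.cons (cos0 hu hg) (AllP.cons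 (cos1 hu hg) (AllP.cons (cos3 hu hg) (AllP.cons (cos4 hu hg) (AllP.cons (cos5 hu hg) (AllP.nil))))), hu.rinv rinv, by decide +kernel⟩
omit hg in
theorem loops : AllP Y.Loop CL :=
  show AllP Y.Loop [(0, [[0], [2], [4], [6]], 5859000000), (1, [[0, 3, 5, 1, 3, 3, 5, 3, 5, 1], [5, 0, 5, 0, 5, 0, 2, 4, 0, 3]], 300000), (3, [[6, 1, 4, 3, 3, 4, 6, 4, 0, 5, 0, 4, 3, 6], [5, 7, 5, 0, 5, 0, 4, 6, 3, 5, 5, 2, 7]], 6048), (4, [[3, 3, 0, 4, 7, 3, 0, 2, 4, 2, 1, 5, 2, 5, 6], [4, 6, 5, 5, 1, 5, 1, 3, 3, 1, 2, 7, 5, 5, 7]], 2880), (5, [[4, 3, 5, 1, 5, 1, 5, 7, 4, 1, 3, 4, 7, 5, 1, 4], [5, 6, 4, 2, 2, 4, 4, 6, 0, 4, 0, 4, 0, 3]], 1008)] from AllP.cons (Or.inl rfl) (AllP.cons (Or.inr (hu.loop loop1)) (AllP.cons (Or.inr (hu.loop loop3)) (AllP.cons (Or.inr (hu.loop loop4)) (AllP.cons (Or.inr (hu.loop loop5)) (AllP.nil)))))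
end

end Cfsg.Agent.Spor.LyD.V
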